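import Cfsg.Agent.Lib.Helper4.Orb.U43.Trans
import Cfsg.Agent.Lib.Helper4.Orb.McL.Main

set_option autoImplicit false
set_option linter.style.haveILetI false
set_option linter.unusedVariables false
set_option linter.unusedSectionVars false

/-! The joint stabiliser of three vectors `u, v, x` of the McLaughlin configuration: the 112 and
the 162 vectors. -/

namespace Cfsg.Agent.Helper4.CO.U43

open Cfsg Cfsg.Agent.Helper4.CO

theorem anc0_eq : anc0 = McL.anc0 := by decide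

theorem anc1_eq : anc1 = McL.anc1 := by decide

theorem anc2_mem : mkL anc2 anc2_in ∈ statSet 32 McL.anc0 McL.anc1 McL.anc2 (24, 16, 0) :=
  mem_statSet_mkL 32 McL.anc0 McL.anc1 McL.anc2 (24, 16, 0) McL.anc0_in.1 McL.anc1_in.1
    McL.anc2_in.1 anc2 anc2_in (by decide) (by decide)

theorem exists_based (u v x : leechLattice) (hu : sqNorm (u : GolayPt → ℤ) = 48)
    (hv : v ∈ dotSet 32 u 0 0 (24, 0, 0)) (hx : x ∈ dotSet 32 u v 0 (24, 16, 0)) :
    ∃ h : Co0, Based h u v x anc0 anc1 anc2 := by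
  obtain ⟨h, hb⟩ := McL.exists_based u v hu hv
  obtain ⟨h', hb'⟩ := hb.extend3 McL.transR anc2 anc2_in anc2_mem hx
  exact ⟨h', hb'.congr anc0_eq.symm anc1_eq.symm rfl⟩

theorem card_M (u v x : leechLattice) (hu : sqNorm (u : GolayPt → ℤ) = 48)
    (hv : v ∈ dotSet 32 u 0 0 (24, 0, 0)) (hx : x ∈ dotSet 32 u v 0 (24, 16, 0)) :
    (dotSet 32 u v x (24, 16, 8)).ncard = 112 := by
  obtain ⟨h, hb⟩ := exists_based u v x hu hv hx
  rw [hb.ncard anc0_in.1 anc1_in.1 anc2_in.1, countM]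

theorem card_N (u v x : leechLattice) (hu : sqNorm (u : GolayPt → ℤ) = 48)
    (hv : v ∈ dotSet 32 u 0 0 (24, 0, 0)) (hx : x ∈ dotSet 32 u v 0 (24, 16, 0)) :
    (dotSet 32 u v x (24, 16, 16)).ncard = 162 := by
  obtain ⟨h, hb⟩ := exists_based u v x hu hv hx
  rw [hb.ncard anc0_in.1 anc1_in.1 anc2_in.1, countN]

theorem trans_M (u v x : leechLattice) (hu : sqNorm (u : GolayPt → ℤ) = 48)
    (hv : v ∈ dotSet 32 u 0 0 (24, 0, 0)) (hx : x ∈ dotSet 32 u v 0 (24, 16, 0))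
    {y y' : leechLattice} (hy : y ∈ dotSet 32 u v x (24, 16, 8))
    (hy' : y' ∈ dotSet 32 u v x (24, 16, 8)) :
    ∃ g : Co0, g • u = u ∧ g • v = v ∧ g • x = x ∧ g • y = y' := by
  obtain ⟨h, hb⟩ := exists_based u v x hu hv hx
  exact hb.trans transM hy hy'

theorem trans_N (u v x : leechLattice) (hu : sqNorm (u : GolayPt → ℤ) = 48)
    (hv : v ∈ dotSet 32 u 0 0 (24, 0, 0)) (hx : x ∈ dotSet 32 u v 0 (24, 16, 0))
    {y y' : leechLattice} (hy : y ∈ dotSet 32 u v x (24, 16, 16))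
    (hy' : y' ∈ dotSet 32 u v x (24, 16, 16)) :
    ∃ g : Co0, g • u = u ∧ g • v = v ∧ g • x = x ∧ g • y = y' := by
  obtain ⟨h, hb⟩ := exists_based u v x hu hv hx
  exact hb.trans transN hy hy'

end Cfsg.Agent.Helper4.CO.U43
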