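import Cfsg.Agent.Lib.Helper4.CoOrbitCount
import Cfsg.Agent.Lib.Helper4.Orb.U43.Cfg

set_option autoImplicit false
set_option linter.style.haveILetI false
set_option linter.unusedVariables false
set_option linter.unusedSectionVars false
set_option Elab.async false

/-! A count of vectors with prescribed inner products (kernel computation). -/

namespace Cfsg.Agent.Helper4.CO.U43

open Cfsg Cfsg.Agent.Helper4.CO

set_option maxRecDepth 1000000 in
theorem countM_p : part1 anc0 anc1 anc2 (24, 16, 8) = 0 := by decide +kernel

set_option maxRecDepth 1000000 in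
theorem countM_b0 : partB anc0 anc1 anc2 (24, 16, 8) 0 = 0 := by decide +kernel

set_option maxRecDepth 1000000 in
theorem countM_b1 : partB anc0 anc1 anc2 (24, 16, 8) 1 = 0 := by decide +kernel

set_option maxRecDepth 1000000 in
theorem countM_b2 : partB anc0 anc1 anc2 (24, 16, 8) 2 = 0 := by decide +kernel

set_option maxRecDepth 1000000 in
theorem countM_b3 : partB anc0 anc1 anc2 (24, 16, 8) 3 = 0 := by decide +kernel

set_option maxRecDepth 1000000 in
theorem countM_b4 : partB anc0 anc1 anc2 (24, 16, 8) 4 = 16 := by decide +kernel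

set_option maxRecDepth 1000000 in
theorem countM_b5 : partB anc0 anc1 anc2 (24, 16, 8) 5 = 40 := by decide +kernel

set_option maxRecDepth 1000000 in
theorem countM_b6 : partB anc0 anc1 anc2 (24, 16, 8) 6 = 0 := by decide +kernel

set_option maxRecDepth 1000000 in
theorem countM_b7 : partB anc0 anc1 anc2 (24, 16, 8) 7 = 0 := by decide +kernel

set_option maxRecDepth 1000000 in
theorem countM_b8 : partB anc0 anc1 anc2 (24, 16, 8) 8 = 0 := by decide +kernel

set_option maxRecDepth 1000000 in
theorem countM_b9 : partB anc0 anc1 anc2 (24, 16, 8) 9 = 0 := by decide +kernel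

set_option maxRecDepth 1000000 in
theorem countM_b10 : partB anc0 anc1 anc2 (24, 16, 8) 10 = 0 := by decide +kernel

set_option maxRecDepth 1000000 in
theorem countM_b11 : partB anc0 anc1 anc2 (24, 16, 8) 11 = 0 := by decide +kernel

set_option maxRecDepth 1000000 in
theorem countM_b12 : partB anc0 anc1 anc2 (24, 16, 8) 12 = 40 := by decide +kernel

set_option maxRecDepth 1000000 in
theorem countM_b13 : partB anc0 anc1 anc2 (24, 16, 8) 13 = 16 := by decide +kernel

set_option maxRecDepth 1000000 in
theorem countM_b14 : partB anc0 anc1 anc2 (24, 16, 8) 14 = 0 := by decide +kernel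

set_option maxRecDepth 1000000 in
theorem countM_b15 : partB anc0 anc1 anc2 (24, 16, 8) 15 = 0 := by decide +kernel

theorem countM : fast32 anc0 anc1 anc2 (24, 16, 8) = 112 := by
  rw [fast32_parts, countM_p, countM_b0, countM_b1, countM_b2, countM_b3, countM_b4, countM_b5, countM_b6, countM_b7, countM_b8, countM_b9, countM_b10, countM_b11, countM_b12, countM_b13, countM_b14, countM_b15]

end Cfsg.Agent.Helper4.CO.U43
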