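import Cfsg.Agent.Lib.Helper4.CoOrbitCount
import Cfsg.Agent.Lib.Helper4.Orb.U43.Cfg

set_option autoImplicit false
set_option linter.style.haveILetI false
set_option linter.unusedVariables false
set_option linter.unusedSectionVars false
set_option Elab.async false

/-! A count of vectors with prescribed inner products (kernel computation). -/

namespace Cfsg.Agent.Helper4.CO.U43

open Cfsg Cfsg.Agent.Helper4.CO

set_option maxRecDepth 1000000 in
theorem countN_p : part1 anc0 anc1 anc2 (24, 16, 16) = 21 := by decide +kernel

set_option maxRecDepth 1000000 in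
theorem countN_b0 : partB anc0 anc1 anc2 (24, 16, 16) 0 = 0 := by decide +kernel

set_option maxRecDepth 1000000 in
theorem countN_b1 : partB anc0 anc1 anc2 (24, 16, 16) 1 = 0 := by decide +kernel

set_option maxRecDepth 1000000 in
theorem countN_b2 : partB anc0 anc1 anc2 (24, 16, 16) 2 = 0 := by decide +kernel

set_option maxRecDepth 1000000 in
theorem countN_b3 : partB anc0 anc1 anc2 (24, 16, 16) 3 = 0 := by decide +kernel

set_option maxRecDepth 1000000 in
theorem countN_b4 : partB anc0 anc1 anc2 (24, 16, 16) 4 = 0 := by decide +kernel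

set_option maxRecDepth 1000000 in
theorem countN_b5 : partB anc0 anc1 anc2 (24, 16, 16) 5 = 0 := by decide +kernel

set_option maxRecDepth 1000000 in
theorem countN_b6 : partB anc0 anc1 anc2 (24, 16, 16) 6 = 40 := by decide +kernel

set_option maxRecDepth 1000000 in
theorem countN_b7 : partB anc0 anc1 anc2 (24, 16, 16) 7 = 80 := by decide +kernel

set_option maxRecDepth 1000000 in
theorem countN_b8 : partB anc0 anc1 anc2 (24, 16, 16) 8 = 0 := by decide +kernel

set_option maxRecDepth 1000000 in
theorem countN_b9 : partB anc0 anc1 anc2 (24, 16, 16) 9 = 0 := by decide +kernel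

set_option maxRecDepth 1000000 in
theorem countN_b10 : partB anc0 anc1 anc2 (24, 16, 16) 10 = 0 := by decide +kernel

set_option maxRecDepth 1000000 in
theorem countN_b11 : partB anc0 anc1 anc2 (24, 16, 16) 11 = 0 := by decide +kernel

set_option maxRecDepth 1000000 in
theorem countN_b12 : partB anc0 anc1 anc2 (24, 16, 16) 12 = 0 := by decide +kernel

set_option maxRecDepth 1000000 in
theorem countN_b13 : partB anc0 anc1 anc2 (24, 16, 16) 13 = 0 := by decide +kernel

set_option maxRecDepth 1000000 in
theorem countN_b14 : partB anc0 anc1 anc2 (24, 16, 16) 14 = 16 := by decide +kernel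

set_option maxRecDepth 1000000 in
theorem countN_b15 : partB anc0 anc1 anc2 (24, 16, 16) 15 = 5 := by decide +kernel

theorem countN : fast32 anc0 anc1 anc2 (24, 16, 16) = 162 := by
  rw [fast32_parts, countN_p, countN_b0, countN_b1, countN_b2, countN_b3, countN_b4, countN_b5, countN_b6, countN_b7, countN_b8, countN_b9, countN_b10, countN_b11, countN_b12, countN_b13, countN_b14, countN_b15]

end Cfsg.Agent.Helper4.CO.U43
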