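import Cfsg.Agent.Lib.Helper4.Orb.U43.CfgM

set_option autoImplicit false
set_option linter.style.haveILetI false
set_option linter.unusedVariables false
set_option linter.unusedSectionVars false
set_option Elab.async false

/-! Orbit certificate chunks (generated data). -/

namespace Cfsg.Agent.Helper4.CO.U43

open Cfsg Cfsg.Agent.Helper4.CO

/-- instructions -/
def tapeM0 : List ℕ := splitN 96 10
  0x30201300201201201300003013003022300200211200000023002012003020113000302300220120001300301213000030200112300033002012000311200030200113003003201200030211114000302003123000300201201300120003300302201120000220030113020111f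

/-- packed keys -/
def numM0 : ℕ :=
  0xa888aaa8a8a88888888888aa88888888aaa888a8888aa8aa8a88a888a8888a888a8a88aa888888a8aa8a8a8a888888aaa8aa88aa8888888a888888aa8888a888a88aa8a8a88888aa88aaa888aa88888888a888aaa888888aaa88a8888a8888aa88a888888a88a88aa888a8aa8a88888a888a888aaa8888aaaaa88888a88a88888888a8aa8888a8a88888a88a8aa888aa888a8aa88a88a8a8888888aa888aa88a88a888a88a8888aa888888888a888aa8aaa888aaaa8a8a88888888888aa888aa88a8a8a888888aa88888a8aa8a888aa88888888a888aa8aa888a8a8aa88a8888888a88aaa8888a8a888888a8a888a8aa8a88a88888a88888a8a8a8aa8aa8aa8a8888a888888888aaa88a88888aaa8888a88888aa88a8888aa8a88a88a88888aaa8888888a888888aa8aa88aa8a8a8888a8a8a88a888888aa8a8888888a8aa88888aa88aa888a88a8a8888888aa88a8aaaa88a8888a8888aa888888aa8888aa888a8a88888a88a8aaa88aa8888888a888888aa8aa88a8888a888888888aaaa8aa888888aa88aaa8888888a8aa97799799999799999797979b79799979997797999999979b79799999999999779997779b77997799999997999999779b97999999977799979999779b99797999999779999979779b79979997999799999799779b99997979997999999797779b97999979979997799997979b79997977999979799999979b97999779997979999979979b99977799799979999799979b99979977777999999999979b99999997799999797797979b99997979799997997979979b9999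9999779979779979979b99999799999999977779779b99979999997779799997979b99777997999997999997979b79999997979997977999979b99999997997997799979779b99999979979779997799979b99779979999999799779979b77999999999799797979979b77999979799999979799979b99997797997799997999979b79999799977999799799979b79999999999977999777979b99979979999977979999779b97979797999999779999979b79979779999999997997979b97797999797999799999979b79997999779799999997979b99799999779997999799779b79977999997999979979979b99999797979979999997779b99799997997979979799979b99977999979999797999779b97997997979999999779979b99999977999799979977979b99799799999977797999979b99999779799799799999779b99997999999797779799979b79799797799999999979979b99999799797997979997979b99799999977999997977979b79999999797979997999779b97979999799999999977779b97999997799777999999979b99797779979999979999979b99779999799799977999979b97997999999979977997979b99979799979797999979979b97799977999999997999779b97979999997997997799979b77779999979979999999979b8888888a8888aaaa888a88aa888aaa8888888a8aa88888aa88888a8a8aa8888a88a888aa88888a88a888aa8888a8a8aa8a8a888a8a888a888888a8aa8a8888aaa88888a888a888aa88a88a88a88888aa8a8888aaa888888888a88a8a8a88a8aa8888a8aa8a888888a88a88aa88a88aa8888a8888a8a888aaa8a8888888a8a8a888a888aaa8a88a888a888a88888a88aa88888a8888a8a888aa8a88aa888a88a888a88a8888aa88aaaa8888a88888aa88a88888aa888a8888888a88aa88a8a8aa8aaa8888888888a8a88a88aaa888a88a888a8a8888a888aa8aa888a88aa888888a8888aa8a888a8888aa8aa8888888aa88a8a88888aa888a888a88aa88aa8888888aaa888a8888aaa88888a8888a88a88a8a88aa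

set_option maxRecDepth 1000000 in
theorem okM0 : chunkOK gens startM tapeM0 (splitN 96 112 numM0) = true := by decide +kernel

end Cfsg.Agent.Helper4.CO.U43
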