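import Cfsg.Agent.Lib.Helper4.CoNodup
import Cfsg.Agent.Lib.Helper4.Orb.U43.MF0

set_option autoImplicit false
set_option linter.style.haveILetI false
set_option linter.unusedVariables false
set_option linter.unusedSectionVars false

/-! Orbit certificate assembly (generated data). -/

namespace Cfsg.Agent.Helper4.CO.U43

open Cfsg Cfsg.Agent.Helper4.CO

/-- the full chunks -/
def tnM : List (List ℕ × ℕ) :=
  []

/-- the chunks -/
def chunksM : List (List ℕ × List ℕ) := mkChunks 2000 tnM tapeM0 112 numM0

theorem chunksM_ok : ∀ ch ∈ chunksM, chunkOK gens startM ch.1 ch.2 = true := by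
  apply mem_mkChunks
  · intro p hp
    simp [tnM] at hp
  · exact okM0

/-- positions in increasing order of the keys -/
def sigmaM : List ℕ := flatW 17 2000
  []
  112 0x328018000a6000800358002c00180051002c801bc000a005c0000001a000ae000f001f800e8008200390013800f80044002b001280090008e0040001a800f400640042000d000a4008600210016800a8004c0049000e800700070003c002500078008c0044000d800a00030001f001880064009c002f00030016800080012002b001b400b6005e00018004400cc005500348000400be000200068004000b0005000338005400c40063002e801500012000700290003800c8006a000a0004c0014004f00360005800dc00610019800800076003400170011400900030001600130009a0023001b800d800960017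

set_option maxRecDepth 1000000 in
theorem certM : certOK 2000 (tnM.map fun p => p.2) 112 numM0 sigmaM = true := by
  decide +kernel

theorem chunksM_nd : (chunksM.flatMap fun ch => ch.2).Nodup :=
  nodup_mkChunks 2000 tnM tapeM0 112 numM0 sigmaM certM

theorem chunksM_len : (chunksM.flatMap fun ch => ch.2).length = 112 := by
  unfold chunksM
  rw [length_mkChunks]
  decide

end Cfsg.Agent.Helper4.CO.U43
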