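import Cfsg.Agent.Lib.Helper4.CoNodup
import Cfsg.Agent.Lib.Helper4.Orb.U43.NF0

set_option autoImplicit false
set_option linter.style.haveILetI false
set_option linter.unusedVariables false
set_option linter.unusedSectionVars false

/-! Orbit certificate assembly (generated data). -/

namespace Cfsg.Agent.Helper4.CO.U43

open Cfsg Cfsg.Agent.Helper4.CO

/-- the full chunks -/
def tnN : List (List ℕ × ℕ) :=
  []

/-- the chunks -/
def chunksN : List (List ℕ × List ℕ) := mkChunks 2000 tnN tapeN0 162 numN0

theorem chunksN_ok : ∀ ch ∈ chunksN, chunkOK gens startN ch.1 ch.2 = true := by
  apply mem_mkChunks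
  · intro p hp
    simp [tnN] at hp
  · exact okN0

/-- positions in increasing order of the keys -/
def sigmaN : List ℕ := flatW 17 2000
  []
  162 0x13c001800068004c001c0006004900160007c003a002b00094005a003100178017000460029001300134007a006e00318010000540050004b8010c00fa007b004d000cc00de008b003b801c0012a002b0039802080118006b0040001d40068008800140019401320061003380168011a0030003200244006e0087002e8010800f400780042801b4012600860025001f000640035001200188007800360048000e0007e008a003c800e40108006a002480120011c00960050000580028001000050027000320012000a800080016000900110001c000a000c000000020003e0011000e00010001e0021004d8027c002e0003000d000780002001b001000074013a00a100238016c00cc00570027001440102004100138017c00960098002f001d000580046003f00110005c005400340018000a6007f0026001b0009e008300390016401280055003b001a401120052001d8023c008a0071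

set_option maxRecDepth 1000000 in
theorem certN : certOK 2000 (tnN.map fun p => p.2) 162 numN0 sigmaN = true := by
  decide +kernel

theorem chunksN_nd : (chunksN.flatMap fun ch => ch.2).Nodup :=
  nodup_mkChunks 2000 tnN tapeN0 162 numN0 sigmaN certN

theorem chunksN_len : (chunksN.flatMap fun ch => ch.2).length = 162 := by
  unfold chunksN
  rw [length_mkChunks]
  decide

end Cfsg.Agent.Helper4.CO.U43
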