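import Cfsg.Agent.Lib.Helper4.Orb.U43.M
import Cfsg.Agent.Lib.Helper4.Orb.U43.CountM
import Cfsg.Agent.Lib.Helper4.Orb.U43.N
import Cfsg.Agent.Lib.Helper4.Orb.U43.CountN

set_option autoImplicit false
set_option linter.style.haveILetI false
set_option linter.unusedVariables false
set_option linter.unusedSectionVars false

/-! Transitivity of a stabiliser on sets of vectors with prescribed inner products. -/

namespace Cfsg.Agent.Helper4.CO.U43

open Cfsg Cfsg.Agent.Helper4.CO

theorem ncardM : (statSet 32 anc0 anc1 anc2 (24, 16, 8)).ncard = (chunksM.flatMap fun ch => ch.2).length := by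
  rw [chunksM_len, ncard_statSet anc0 anc1 anc2 anc0_in.1 anc1_in.1 anc2_in.1, countM]

theorem transM : ∀ x ∈ statSet 32 anc0 anc1 anc2 (24, 16, 8), ∀ y ∈ statSet 32 anc0 anc1 anc2 (24, 16, 8),
    ∃ g : Co0, (∀ a ∈ anchors, FixL g a) ∧ g • x = y :=
  orbit_trans' anchors gens gensOK startM startM_in (by decide) _
    (mem_statSet_mkL 32 anc0 anc1 anc2 (24, 16, 8) anc0_in.1 anc1_in.1 anc2_in.1 startM startM_in
      (by decide) (by decide))
    (statSet_inv 32 anc0 anc1 anc2 (24, 16, 8) anc0_in anc1_in anc2_in) chunksM chunksM_ok chunksM_nd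
    ncardM (Set.finite_of_ncard_ne_zero (by rw [ncardM, chunksM_len]; norm_num))

theorem ncardN : (statSet 32 anc0 anc1 anc2 (24, 16, 16)).ncard = (chunksN.flatMap fun ch => ch.2).length := by
  rw [chunksN_len, ncard_statSet anc0 anc1 anc2 anc0_in.1 anc1_in.1 anc2_in.1, countN]

theorem transN : ∀ x ∈ statSet 32 anc0 anc1 anc2 (24, 16, 16), ∀ y ∈ statSet 32 anc0 anc1 anc2 (24, 16, 16),
    ∃ g : Co0, (∀ a ∈ anchors, FixL g a) ∧ g • x = y :=
  orbit_trans' anchors gens gensOK startN startN_in (by decide) _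
    (mem_statSet_mkL 32 anc0 anc1 anc2 (24, 16, 16) anc0_in.1 anc1_in.1 anc2_in.1 startN startN_in
      (by decide) (by decide))
    (statSet_inv 32 anc0 anc1 anc2 (24, 16, 16) anc0_in anc1_in anc2_in) chunksN chunksN_ok chunksN_nd
    ncardN (Set.finite_of_ncard_ne_zero (by rw [ncardN, chunksN_len]; norm_num))

end Cfsg.Agent.Helper4.CO.U43
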